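import Cfsg.Agent.HN133.CertQ.Data

/-! Generated: checks of the rows. -/

set_option autoImplicit false
set_option maxRecDepth 100000

namespace CfsgLib.HN133.CertQ

open CfsgLib.CosetEnum

theorem rows40960 : allFrom (checkRow epF (fun x => x ^^^ 1) 288713 4 nodeF TF tfF 63000) 40960 256 = true := by
  decide +kernel

theorem rows41216 : allFrom (checkRow epF (fun x => x ^^^ 1) 288713 4 nodeF TF tfF 63000) 41216 256 = true := by
  decide +kernel

theorem rows41472 : allFrom (checkRow epF (fun x => x ^^^ 1) 288713 4 nodeF TF tfF 63000) 41472 256 = true := by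
  decide +kernel

theorem rows41728 : allFrom (checkRow epF (fun x => x ^^^ 1) 288713 4 nodeF TF tfF 63000) 41728 256 = true := by
  decide +kernel

theorem rows41984 : allFrom (checkRow epF (fun x => x ^^^ 1) 288713 4 nodeF TF tfF 63000) 41984 256 = true := by
  decide +kernel

theorem rows42240 : allFrom (checkRow epF (fun x => x ^^^ 1) 288713 4 nodeF TF tfF 63000) 42240 256 = true := by
  decide +kernel

theorem rows42496 : allFrom (checkRow epF (fun x => x ^^^ 1) 288713 4 nodeF TF tfF 63000) 42496 256 = true := by
  decide +kernel

theorem rows42752 : allFrom (checkRow epF (fun x => x ^^^ 1) 288713 4 nodeF TF tfF 63000) 42752 256 = true := by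
  decide +kernel

theorem rows43008 : allFrom (checkRow epF (fun x => x ^^^ 1) 288713 4 nodeF TF tfF 63000) 43008 256 = true := by
  decide +kernel

theorem rows43264 : allFrom (checkRow epF (fun x => x ^^^ 1) 288713 4 nodeF TF tfF 63000) 43264 256 = true := by
  decide +kernel

theorem rows43520 : allFrom (checkRow epF (fun x => x ^^^ 1) 288713 4 nodeF TF tfF 63000) 43520 256 = true := by
  decide +kernel

theorem rows43776 : allFrom (checkRow epF (fun x => x ^^^ 1) 288713 4 nodeF TF tfF 63000) 43776 256 = true := by
  decide +kernel

theorem rows44032 : allFrom (checkRow epF (fun x => x ^^^ 1) 288713 4 nodeF TF tfF 63000) 44032 256 = true := by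
  decide +kernel

theorem rows44288 : allFrom (checkRow epF (fun x => x ^^^ 1) 288713 4 nodeF TF tfF 63000) 44288 256 = true := by
  decide +kernel

theorem rows44544 : allFrom (checkRow epF (fun x => x ^^^ 1) 288713 4 nodeF TF tfF 63000) 44544 256 = true := by
  decide +kernel

theorem rows44800 : allFrom (checkRow epF (fun x => x ^^^ 1) 288713 4 nodeF TF tfF 63000) 44800 256 = true := by
  decide +kernel

end CfsgLib.HN133.CertQ
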