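import Cfsg.Agent.HN133.CertQ.Data

/-! Generated: checks of the rows. -/

set_option autoImplicit false
set_option maxRecDepth 100000

namespace CfsgLib.HN133.CertQ

open CfsgLib.CosetEnum

theorem rows45056 : allFrom (checkRow epF (fun x => x ^^^ 1) 288713 4 nodeF TF tfF 63000) 45056 256 = true := by
  decide +kernel

theorem rows45312 : allFrom (checkRow epF (fun x => x ^^^ 1) 288713 4 nodeF TF tfF 63000) 45312 256 = true := by
  decide +kernel

theorem rows45568 : allFrom (checkRow epF (fun x => x ^^^ 1) 288713 4 nodeF TF tfF 63000) 45568 256 = true := by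
  decide +kernel

theorem rows45824 : allFrom (checkRow epF (fun x => x ^^^ 1) 288713 4 nodeF TF tfF 63000) 45824 256 = true := by
  decide +kernel

theorem rows46080 : allFrom (checkRow epF (fun x => x ^^^ 1) 288713 4 nodeF TF tfF 63000) 46080 256 = true := by
  decide +kernel

theorem rows46336 : allFrom (checkRow epF (fun x => x ^^^ 1) 288713 4 nodeF TF tfF 63000) 46336 256 = true := by
  decide +kernel

theorem rows46592 : allFrom (checkRow epF (fun x => x ^^^ 1) 288713 4 nodeF TF tfF 63000) 46592 256 = true := by
  decide +kernel

theorem rows46848 : allFrom (checkRow epF (fun x => x ^^^ 1) 288713 4 nodeF TF tfF 63000) 46848 256 = true := by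
  decide +kernel

theorem rows47104 : allFrom (checkRow epF (fun x => x ^^^ 1) 288713 4 nodeF TF tfF 63000) 47104 256 = true := by
  decide +kernel

theorem rows47360 : allFrom (checkRow epF (fun x => x ^^^ 1) 288713 4 nodeF TF tfF 63000) 47360 256 = true := by
  decide +kernel

theorem rows47616 : allFrom (checkRow epF (fun x => x ^^^ 1) 288713 4 nodeF TF tfF 63000) 47616 256 = true := by
  decide +kernel

theorem rows47872 : allFrom (checkRow epF (fun x => x ^^^ 1) 288713 4 nodeF TF tfF 63000) 47872 256 = true := by
  decide +kernel

theorem rows48128 : allFrom (checkRow epF (fun x => x ^^^ 1) 288713 4 nodeF TF tfF 63000) 48128 256 = true := by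
  decide +kernel

theorem rows48384 : allFrom (checkRow epF (fun x => x ^^^ 1) 288713 4 nodeF TF tfF 63000) 48384 256 = true := by
  decide +kernel

theorem rows48640 : allFrom (checkRow epF (fun x => x ^^^ 1) 288713 4 nodeF TF tfF 63000) 48640 256 = true := by
  decide +kernel

theorem rows48896 : allFrom (checkRow epF (fun x => x ^^^ 1) 288713 4 nodeF TF tfF 63000) 48896 256 = true := by
  decide +kernel

end CfsgLib.HN133.CertQ
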