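import Cfsg.Agent.HN133.CertQ.Data

/-! Generated: checks of the rows. -/

set_option autoImplicit false
set_option maxRecDepth 100000

namespace CfsgLib.HN133.CertQ

open CfsgLib.CosetEnum

theorem rows49152 : allFrom (checkRow epF (fun x => x ^^^ 1) 288713 4 nodeF TF tfF 63000) 49152 256 = true := by
  decide +kernel

theorem rows49408 : allFrom (checkRow epF (fun x => x ^^^ 1) 288713 4 nodeF TF tfF 63000) 49408 256 = true := by
  decide +kernel

theorem rows49664 : allFrom (checkRow epF (fun x => x ^^^ 1) 288713 4 nodeF TF tfF 63000) 49664 256 = true := by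
  decide +kernel

theorem rows49920 : allFrom (checkRow epF (fun x => x ^^^ 1) 288713 4 nodeF TF tfF 63000) 49920 256 = true := by
  decide +kernel

theorem rows50176 : allFrom (checkRow epF (fun x => x ^^^ 1) 288713 4 nodeF TF tfF 63000) 50176 256 = true := by
  decide +kernel

theorem rows50432 : allFrom (checkRow epF (fun x => x ^^^ 1) 288713 4 nodeF TF tfF 63000) 50432 256 = true := by
  decide +kernel

theorem rows50688 : allFrom (checkRow epF (fun x => x ^^^ 1) 288713 4 nodeF TF tfF 63000) 50688 256 = true := by
  decide +kernel

theorem rows50944 : allFrom (checkRow epF (fun x => x ^^^ 1) 288713 4 nodeF TF tfF 63000) 50944 256 = true := by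
  decide +kernel

theorem rows51200 : allFrom (checkRow epF (fun x => x ^^^ 1) 288713 4 nodeF TF tfF 63000) 51200 256 = true := by
  decide +kernel

theorem rows51456 : allFrom (checkRow epF (fun x => x ^^^ 1) 288713 4 nodeF TF tfF 63000) 51456 256 = true := by
  decide +kernel

theorem rows51712 : allFrom (checkRow epF (fun x => x ^^^ 1) 288713 4 nodeF TF tfF 63000) 51712 256 = true := by
  decide +kernel

theorem rows51968 : allFrom (checkRow epF (fun x => x ^^^ 1) 288713 4 nodeF TF tfF 63000) 51968 256 = true := by
  decide +kernel

theorem rows52224 : allFrom (checkRow epF (fun x => x ^^^ 1) 288713 4 nodeF TF tfF 63000) 52224 256 = true := by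
  decide +kernel

theorem rows52480 : allFrom (checkRow epF (fun x => x ^^^ 1) 288713 4 nodeF TF tfF 63000) 52480 256 = true := by
  decide +kernel

theorem rows52736 : allFrom (checkRow epF (fun x => x ^^^ 1) 288713 4 nodeF TF tfF 63000) 52736 256 = true := by
  decide +kernel

theorem rows52992 : allFrom (checkRow epF (fun x => x ^^^ 1) 288713 4 nodeF TF tfF 63000) 52992 256 = true := by
  decide +kernel

end CfsgLib.HN133.CertQ
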