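import Cfsg.Agent.HN133.CertQ.Data

/-! Generated: checks of the rows. -/

set_option autoImplicit false
set_option maxRecDepth 100000

namespace CfsgLib.HN133.CertQ

open CfsgLib.CosetEnum

theorem rows53248 : allFrom (checkRow epF (fun x => x ^^^ 1) 288713 4 nodeF TF tfF 63000) 53248 256 = true := by
  decide +kernel

theorem rows53504 : allFrom (checkRow epF (fun x => x ^^^ 1) 288713 4 nodeF TF tfF 63000) 53504 256 = true := by
  decide +kernel

theorem rows53760 : allFrom (checkRow epF (fun x => x ^^^ 1) 288713 4 nodeF TF tfF 63000) 53760 256 = true := by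
  decide +kernel

theorem rows54016 : allFrom (checkRow epF (fun x => x ^^^ 1) 288713 4 nodeF TF tfF 63000) 54016 256 = true := by
  decide +kernel

theorem rows54272 : allFrom (checkRow epF (fun x => x ^^^ 1) 288713 4 nodeF TF tfF 63000) 54272 256 = true := by
  decide +kernel

theorem rows54528 : allFrom (checkRow epF (fun x => x ^^^ 1) 288713 4 nodeF TF tfF 63000) 54528 256 = true := by
  decide +kernel

theorem rows54784 : allFrom (checkRow epF (fun x => x ^^^ 1) 288713 4 nodeF TF tfF 63000) 54784 256 = true := by
  decide +kernel

theorem rows55040 : allFrom (checkRow epF (fun x => x ^^^ 1) 288713 4 nodeF TF tfF 63000) 55040 256 = true := by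
  decide +kernel

theorem rows55296 : allFrom (checkRow epF (fun x => x ^^^ 1) 288713 4 nodeF TF tfF 63000) 55296 256 = true := by
  decide +kernel

theorem rows55552 : allFrom (checkRow epF (fun x => x ^^^ 1) 288713 4 nodeF TF tfF 63000) 55552 256 = true := by
  decide +kernel

theorem rows55808 : allFrom (checkRow epF (fun x => x ^^^ 1) 288713 4 nodeF TF tfF 63000) 55808 256 = true := by
  decide +kernel

theorem rows56064 : allFrom (checkRow epF (fun x => x ^^^ 1) 288713 4 nodeF TF tfF 63000) 56064 256 = true := by
  decide +kernel

theorem rows56320 : allFrom (checkRow epF (fun x => x ^^^ 1) 288713 4 nodeF TF tfF 63000) 56320 256 = true := by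
  decide +kernel

theorem rows56576 : allFrom (checkRow epF (fun x => x ^^^ 1) 288713 4 nodeF TF tfF 63000) 56576 256 = true := by
  decide +kernel

theorem rows56832 : allFrom (checkRow epF (fun x => x ^^^ 1) 288713 4 nodeF TF tfF 63000) 56832 256 = true := by
  decide +kernel

theorem rows57088 : allFrom (checkRow epF (fun x => x ^^^ 1) 288713 4 nodeF TF tfF 63000) 57088 256 = true := by
  decide +kernel

end CfsgLib.HN133.CertQ
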