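import Cfsg.Agent.HN133.CertQ.Data

/-! Generated: checks of the rows. -/

set_option autoImplicit false
set_option maxRecDepth 100000

namespace CfsgLib.HN133.CertQ

open CfsgLib.CosetEnum

theorem rows57344 : allFrom (checkRow epF (fun x => x ^^^ 1) 288713 4 nodeF TF tfF 63000) 57344 256 = true := by
  decide +kernel

theorem rows57600 : allFrom (checkRow epF (fun x => x ^^^ 1) 288713 4 nodeF TF tfF 63000) 57600 256 = true := by
  decide +kernel

theorem rows57856 : allFrom (checkRow epF (fun x => x ^^^ 1) 288713 4 nodeF TF tfF 63000) 57856 256 = true := by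
  decide +kernel

theorem rows58112 : allFrom (checkRow epF (fun x => x ^^^ 1) 288713 4 nodeF TF tfF 63000) 58112 256 = true := by
  decide +kernel

theorem rows58368 : allFrom (checkRow epF (fun x => x ^^^ 1) 288713 4 nodeF TF tfF 63000) 58368 256 = true := by
  decide +kernel

theorem rows58624 : allFrom (checkRow epF (fun x => x ^^^ 1) 288713 4 nodeF TF tfF 63000) 58624 256 = true := by
  decide +kernel

theorem rows58880 : allFrom (checkRow epF (fun x => x ^^^ 1) 288713 4 nodeF TF tfF 63000) 58880 256 = true := by
  decide +kernel

theorem rows59136 : allFrom (checkRow epF (fun x => x ^^^ 1) 288713 4 nodeF TF tfF 63000) 59136 256 = true := by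
  decide +kernel

theorem rows59392 : allFrom (checkRow epF (fun x => x ^^^ 1) 288713 4 nodeF TF tfF 63000) 59392 256 = true := by
  decide +kernel

theorem rows59648 : allFrom (checkRow epF (fun x => x ^^^ 1) 288713 4 nodeF TF tfF 63000) 59648 256 = true := by
  decide +kernel

theorem rows59904 : allFrom (checkRow epF (fun x => x ^^^ 1) 288713 4 nodeF TF tfF 63000) 59904 256 = true := by
  decide +kernel

theorem rows60160 : allFrom (checkRow epF (fun x => x ^^^ 1) 288713 4 nodeF TF tfF 63000) 60160 256 = true := by
  decide +kernel

theorem rows60416 : allFrom (checkRow epF (fun x => x ^^^ 1) 288713 4 nodeF TF tfF 63000) 60416 256 = true := by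
  decide +kernel

theorem rows60672 : allFrom (checkRow epF (fun x => x ^^^ 1) 288713 4 nodeF TF tfF 63000) 60672 256 = true := by
  decide +kernel

theorem rows60928 : allFrom (checkRow epF (fun x => x ^^^ 1) 288713 4 nodeF TF tfF 63000) 60928 256 = true := by
  decide +kernel

theorem rows61184 : allFrom (checkRow epF (fun x => x ^^^ 1) 288713 4 nodeF TF tfF 63000) 61184 256 = true := by
  decide +kernel

end CfsgLib.HN133.CertQ
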