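import Cfsg.Agent.HN133.CertQ.Data

/-! Generated: checks of the rows. -/

set_option autoImplicit false
set_option maxRecDepth 100000

namespace CfsgLib.HN133.CertQ

open CfsgLib.CosetEnum

theorem rows61440 : allFrom (checkRow epF (fun x => x ^^^ 1) 288713 4 nodeF TF tfF 63000) 61440 256 = true := by
  decide +kernel

theorem rows61696 : allFrom (checkRow epF (fun x => x ^^^ 1) 288713 4 nodeF TF tfF 63000) 61696 256 = true := by
  decide +kernel

theorem rows61952 : allFrom (checkRow epF (fun x => x ^^^ 1) 288713 4 nodeF TF tfF 63000) 61952 256 = true := by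
  decide +kernel

theorem rows62208 : allFrom (checkRow epF (fun x => x ^^^ 1) 288713 4 nodeF TF tfF 63000) 62208 256 = true := by
  decide +kernel

theorem rows62464 : allFrom (checkRow epF (fun x => x ^^^ 1) 288713 4 nodeF TF tfF 63000) 62464 256 = true := by
  decide +kernel

theorem rows62720 : allFrom (checkRow epF (fun x => x ^^^ 1) 288713 4 nodeF TF tfF 63000) 62720 256 = true := by
  decide +kernel

theorem rows62976 : allFrom (checkRow epF (fun x => x ^^^ 1) 288713 4 nodeF TF tfF 63000) 62976 24 = true := by
  decide +kernel

end CfsgLib.HN133.CertQ
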