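import Cfsg.Agent.HN133.CertQ.Data

/-! Generated: checks of the rows. -/

set_option autoImplicit false
set_option maxRecDepth 100000

namespace CfsgLib.HN133.CertQ

open CfsgLib.CosetEnum

theorem rows24576 : allFrom (checkRow epF (fun x => x ^^^ 1) 288713 4 nodeF TF tfF 63000) 24576 256 = true := by
  decide +kernel

theorem rows24832 : allFrom (checkRow epF (fun x => x ^^^ 1) 288713 4 nodeF TF tfF 63000) 24832 256 = true := by
  decide +kernel

theorem rows25088 : allFrom (checkRow epF (fun x => x ^^^ 1) 288713 4 nodeF TF tfF 63000) 25088 256 = true := by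
  decide +kernel

theorem rows25344 : allFrom (checkRow epF (fun x => x ^^^ 1) 288713 4 nodeF TF tfF 63000) 25344 256 = true := by
  decide +kernel

theorem rows25600 : allFrom (checkRow epF (fun x => x ^^^ 1) 288713 4 nodeF TF tfF 63000) 25600 256 = true := by
  decide +kernel

theorem rows25856 : allFrom (checkRow epF (fun x => x ^^^ 1) 288713 4 nodeF TF tfF 63000) 25856 256 = true := by
  decide +kernel

theorem rows26112 : allFrom (checkRow epF (fun x => x ^^^ 1) 288713 4 nodeF TF tfF 63000) 26112 256 = true := by
  decide +kernel

theorem rows26368 : allFrom (checkRow epF (fun x => x ^^^ 1) 288713 4 nodeF TF tfF 63000) 26368 256 = true := by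
  decide +kernel

theorem rows26624 : allFrom (checkRow epF (fun x => x ^^^ 1) 288713 4 nodeF TF tfF 63000) 26624 256 = true := by
  decide +kernel

theorem rows26880 : allFrom (checkRow epF (fun x => x ^^^ 1) 288713 4 nodeF TF tfF 63000) 26880 256 = true := by
  decide +kernel

theorem rows27136 : allFrom (checkRow epF (fun x => x ^^^ 1) 288713 4 nodeF TF tfF 63000) 27136 256 = true := by
  decide +kernel

theorem rows27392 : allFrom (checkRow epF (fun x => x ^^^ 1) 288713 4 nodeF TF tfF 63000) 27392 256 = true := by
  decide +kernel

theorem rows27648 : allFrom (checkRow epF (fun x => x ^^^ 1) 288713 4 nodeF TF tfF 63000) 27648 256 = true := by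
  decide +kernel

theorem rows27904 : allFrom (checkRow epF (fun x => x ^^^ 1) 288713 4 nodeF TF tfF 63000) 27904 256 = true := by
  decide +kernel

theorem rows28160 : allFrom (checkRow epF (fun x => x ^^^ 1) 288713 4 nodeF TF tfF 63000) 28160 256 = true := by
  decide +kernel

theorem rows28416 : allFrom (checkRow epF (fun x => x ^^^ 1) 288713 4 nodeF TF tfF 63000) 28416 256 = true := by
  decide +kernel

end CfsgLib.HN133.CertQ
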