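import Cfsg.Agent.HN133.CertQ.Data

/-! Generated: checks of the rows. -/

set_option autoImplicit false
set_option maxRecDepth 100000

namespace CfsgLib.HN133.CertQ

open CfsgLib.CosetEnum

theorem rows28672 : allFrom (checkRow epF (fun x => x ^^^ 1) 288713 4 nodeF TF tfF 63000) 28672 256 = true := by
  decide +kernel

theorem rows28928 : allFrom (checkRow epF (fun x => x ^^^ 1) 288713 4 nodeF TF tfF 63000) 28928 256 = true := by
  decide +kernel

theorem rows29184 : allFrom (checkRow epF (fun x => x ^^^ 1) 288713 4 nodeF TF tfF 63000) 29184 256 = true := by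
  decide +kernel

theorem rows29440 : allFrom (checkRow epF (fun x => x ^^^ 1) 288713 4 nodeF TF tfF 63000) 29440 256 = true := by
  decide +kernel

theorem rows29696 : allFrom (checkRow epF (fun x => x ^^^ 1) 288713 4 nodeF TF tfF 63000) 29696 256 = true := by
  decide +kernel

theorem rows29952 : allFrom (checkRow epF (fun x => x ^^^ 1) 288713 4 nodeF TF tfF 63000) 29952 256 = true := by
  decide +kernel

theorem rows30208 : allFrom (checkRow epF (fun x => x ^^^ 1) 288713 4 nodeF TF tfF 63000) 30208 256 = true := by
  decide +kernel

theorem rows30464 : allFrom (checkRow epF (fun x => x ^^^ 1) 288713 4 nodeF TF tfF 63000) 30464 256 = true := by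
  decide +kernel

theorem rows30720 : allFrom (checkRow epF (fun x => x ^^^ 1) 288713 4 nodeF TF tfF 63000) 30720 256 = true := by
  decide +kernel

theorem rows30976 : allFrom (checkRow epF (fun x => x ^^^ 1) 288713 4 nodeF TF tfF 63000) 30976 256 = true := by
  decide +kernel

theorem rows31232 : allFrom (checkRow epF (fun x => x ^^^ 1) 288713 4 nodeF TF tfF 63000) 31232 256 = true := by
  decide +kernel

theorem rows31488 : allFrom (checkRow epF (fun x => x ^^^ 1) 288713 4 nodeF TF tfF 63000) 31488 256 = true := by
  decide +kernel

theorem rows31744 : allFrom (checkRow epF (fun x => x ^^^ 1) 288713 4 nodeF TF tfF 63000) 31744 256 = true := by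
  decide +kernel

theorem rows32000 : allFrom (checkRow epF (fun x => x ^^^ 1) 288713 4 nodeF TF tfF 63000) 32000 256 = true := by
  decide +kernel

theorem rows32256 : allFrom (checkRow epF (fun x => x ^^^ 1) 288713 4 nodeF TF tfF 63000) 32256 256 = true := by
  decide +kernel

theorem rows32512 : allFrom (checkRow epF (fun x => x ^^^ 1) 288713 4 nodeF TF tfF 63000) 32512 256 = true := by
  decide +kernel

end CfsgLib.HN133.CertQ
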