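import Cfsg.Agent.HN133.CertQ.Data

/-! Generated: checks of the rows. -/

set_option autoImplicit false
set_option maxRecDepth 100000

namespace CfsgLib.HN133.CertQ

open CfsgLib.CosetEnum

theorem rows32768 : allFrom (checkRow epF (fun x => x ^^^ 1) 288713 4 nodeF TF tfF 63000) 32768 256 = true := by
  decide +kernel

theorem rows33024 : allFrom (checkRow epF (fun x => x ^^^ 1) 288713 4 nodeF TF tfF 63000) 33024 256 = true := by
  decide +kernel

theorem rows33280 : allFrom (checkRow epF (fun x => x ^^^ 1) 288713 4 nodeF TF tfF 63000) 33280 256 = true := by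
  decide +kernel

theorem rows33536 : allFrom (checkRow epF (fun x => x ^^^ 1) 288713 4 nodeF TF tfF 63000) 33536 256 = true := by
  decide +kernel

theorem rows33792 : allFrom (checkRow epF (fun x => x ^^^ 1) 288713 4 nodeF TF tfF 63000) 33792 256 = true := by
  decide +kernel

theorem rows34048 : allFrom (checkRow epF (fun x => x ^^^ 1) 288713 4 nodeF TF tfF 63000) 34048 256 = true := by
  decide +kernel

theorem rows34304 : allFrom (checkRow epF (fun x => x ^^^ 1) 288713 4 nodeF TF tfF 63000) 34304 256 = true := by
  decide +kernel

theorem rows34560 : allFrom (checkRow epF (fun x => x ^^^ 1) 288713 4 nodeF TF tfF 63000) 34560 256 = true := by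
  decide +kernel

theorem rows34816 : allFrom (checkRow epF (fun x => x ^^^ 1) 288713 4 nodeF TF tfF 63000) 34816 256 = true := by
  decide +kernel

theorem rows35072 : allFrom (checkRow epF (fun x => x ^^^ 1) 288713 4 nodeF TF tfF 63000) 35072 256 = true := by
  decide +kernel

theorem rows35328 : allFrom (checkRow epF (fun x => x ^^^ 1) 288713 4 nodeF TF tfF 63000) 35328 256 = true := by
  decide +kernel

theorem rows35584 : allFrom (checkRow epF (fun x => x ^^^ 1) 288713 4 nodeF TF tfF 63000) 35584 256 = true := by
  decide +kernel

theorem rows35840 : allFrom (checkRow epF (fun x => x ^^^ 1) 288713 4 nodeF TF tfF 63000) 35840 256 = true := by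
  decide +kernel

theorem rows36096 : allFrom (checkRow epF (fun x => x ^^^ 1) 288713 4 nodeF TF tfF 63000) 36096 256 = true := by
  decide +kernel

theorem rows36352 : allFrom (checkRow epF (fun x => x ^^^ 1) 288713 4 nodeF TF tfF 63000) 36352 256 = true := by
  decide +kernel

theorem rows36608 : allFrom (checkRow epF (fun x => x ^^^ 1) 288713 4 nodeF TF tfF 63000) 36608 256 = true := by
  decide +kernel

end CfsgLib.HN133.CertQ
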