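import Cfsg.Agent.HN133.CertQ.Data

/-! Generated: checks of the rows. -/

set_option autoImplicit false
set_option maxRecDepth 100000

namespace CfsgLib.HN133.CertQ

open CfsgLib.CosetEnum

theorem rows36864 : allFrom (checkRow epF (fun x => x ^^^ 1) 288713 4 nodeF TF tfF 63000) 36864 256 = true := by
  decide +kernel

theorem rows37120 : allFrom (checkRow epF (fun x => x ^^^ 1) 288713 4 nodeF TF tfF 63000) 37120 256 = true := by
  decide +kernel

theorem rows37376 : allFrom (checkRow epF (fun x => x ^^^ 1) 288713 4 nodeF TF tfF 63000) 37376 256 = true := by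
  decide +kernel

theorem rows37632 : allFrom (checkRow epF (fun x => x ^^^ 1) 288713 4 nodeF TF tfF 63000) 37632 256 = true := by
  decide +kernel

theorem rows37888 : allFrom (checkRow epF (fun x => x ^^^ 1) 288713 4 nodeF TF tfF 63000) 37888 256 = true := by
  decide +kernel

theorem rows38144 : allFrom (checkRow epF (fun x => x ^^^ 1) 288713 4 nodeF TF tfF 63000) 38144 256 = true := by
  decide +kernel

theorem rows38400 : allFrom (checkRow epF (fun x => x ^^^ 1) 288713 4 nodeF TF tfF 63000) 38400 256 = true := by
  decide +kernel

theorem rows38656 : allFrom (checkRow epF (fun x => x ^^^ 1) 288713 4 nodeF TF tfF 63000) 38656 256 = true := by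
  decide +kernel

theorem rows38912 : allFrom (checkRow epF (fun x => x ^^^ 1) 288713 4 nodeF TF tfF 63000) 38912 256 = true := by
  decide +kernel

theorem rows39168 : allFrom (checkRow epF (fun x => x ^^^ 1) 288713 4 nodeF TF tfF 63000) 39168 256 = true := by
  decide +kernel

theorem rows39424 : allFrom (checkRow epF (fun x => x ^^^ 1) 288713 4 nodeF TF tfF 63000) 39424 256 = true := by
  decide +kernel

theorem rows39680 : allFrom (checkRow epF (fun x => x ^^^ 1) 288713 4 nodeF TF tfF 63000) 39680 256 = true := by
  decide +kernel

theorem rows39936 : allFrom (checkRow epF (fun x => x ^^^ 1) 288713 4 nodeF TF tfF 63000) 39936 256 = true := by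
  decide +kernel

theorem rows40192 : allFrom (checkRow epF (fun x => x ^^^ 1) 288713 4 nodeF TF tfF 63000) 40192 256 = true := by
  decide +kernel

theorem rows40448 : allFrom (checkRow epF (fun x => x ^^^ 1) 288713 4 nodeF TF tfF 63000) 40448 256 = true := by
  decide +kernel

theorem rows40704 : allFrom (checkRow epF (fun x => x ^^^ 1) 288713 4 nodeF TF tfF 63000) 40704 256 = true := by
  decide +kernel

end CfsgLib.HN133.CertQ
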