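import Cfsg.Agent.HN133.CertQ.Facts0
import Cfsg.Agent.HN133.CertQ.Facts1
import Cfsg.Agent.HN133.CertQ.Facts2
import Cfsg.Agent.HN133.CertQ.Facts3
import Cfsg.Agent.HN133.CertQ.Facts4
import Cfsg.Agent.HN133.CertQ.Facts5
import Cfsg.Agent.HN133.CertQ.Facts6
import Cfsg.Agent.HN133.CertQ.Facts7
import Cfsg.Agent.HN133.CertQ.Facts8
import Cfsg.Agent.HN133.CertQ.Facts9
import Cfsg.Agent.HN133.CertQ.Facts10
import Cfsg.Agent.HN133.CertQ.Facts11
import Cfsg.Agent.HN133.CertQ.Facts12
import Cfsg.Agent.HN133.CertQ.Facts13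
import Cfsg.Agent.HN133.CertQ.Facts14
import Cfsg.Agent.HN133.CertQ.Facts15
import Cfsg.Agent.HN133.CertQ.Facts16
import Cfsg.Agent.HN133.CertQ.Facts17
import Cfsg.Agent.HN133.CertQ.Facts18
import Cfsg.Agent.HN133.CertQ.Facts19
import Cfsg.Agent.HN133.CertQ.Facts20
import Cfsg.Agent.HN133.CertQ.Facts21
import Cfsg.Agent.HN133.CertQ.Facts22
import Cfsg.Agent.HN133.CertQ.Facts23
import Cfsg.Agent.HN133.CertQ.Facts24
import Cfsg.Agent.HN133.CertQ.Facts25
import Cfsg.Agent.HN133.CertQ.Facts26
import Cfsg.Agent.HN133.CertQ.Facts27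
import Cfsg.Agent.HN133.CertQ.Facts28
import Cfsg.Agent.HN133.CertQ.Facts29
import Cfsg.Agent.HN133.CertQ.Facts30
import Cfsg.Agent.HN133.CertQ.Facts31
import Cfsg.Agent.HN133.CertQ.Facts32
import Cfsg.Agent.HN133.CertQ.Facts33
import Cfsg.Agent.HN133.CertQ.Facts34
import Cfsg.Agent.HN133.CertQ.Facts35
import Cfsg.Agent.HN133.CertQ.Rows0
import Cfsg.Agent.HN133.CertQ.Rows1
import Cfsg.Agent.HN133.CertQ.Rows2
import Cfsg.Agent.HN133.CertQ.Rows3
import Cfsg.Agent.HN133.CertQ.Rows4
import Cfsg.Agent.HN133.CertQ.Rows5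
import Cfsg.Agent.HN133.CertQ.Rows6
import Cfsg.Agent.HN133.CertQ.Rows7
import Cfsg.Agent.HN133.CertQ.Rows8
import Cfsg.Agent.HN133.CertQ.Rows9
import Cfsg.Agent.HN133.CertQ.Rows10
import Cfsg.Agent.HN133.CertQ.Rows11
import Cfsg.Agent.HN133.CertQ.Rows12
import Cfsg.Agent.HN133.CertQ.Rows13
import Cfsg.Agent.HN133.CertQ.Rows14
import Cfsg.Agent.HN133.CertQ.Rows15

/-! Generated: the checked certificate. -/

set_option autoImplicit false
set_option maxRecDepth 100000

namespace CfsgLib.HN133.CertQ

open CfsgLib.CosetEnum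

theorem facts : FactsChecked cert.ep cert.iv cert.words cert.nr 288713 :=
  (factsUpTo288713 (factsUpTo286720 (factsUpTo278528 (factsUpTo270336 (factsUpTo262144 (factsUpTo253952 (factsUpTo245760 (factsUpTo237568 (factsUpTo229376 (factsUpTo221184 (factsUpTo212992 (factsUpTo204800 (factsUpTo196608 (factsUpTo188416 (factsUpTo180224 (factsUpTo172032 (factsUpTo163840 (factsUpTo155648 (factsUpTo147456 (factsUpTo139264 (factsUpTo131072 (factsUpTo122880 (factsUpTo114688 (factsUpTo106496 (factsUpTo98304 (factsUpTo90112 (factsUpTo81920 (factsUpTo73728 (factsUpTo65536 (factsUpTo57344 (factsUpTo49152 (factsUpTo40960 (factsUpTo32768 (factsUpTo24576 (factsUpTo16384 (factsUpTo8192 FactsChecked.zero))))))))))))))))))))))))))))))))))))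

theorem rows : ∀ i < cert.n, checkRow cert.ep cert.iv 288713 cert.L cert.node cert.T cert.tf cert.n i = true :=
  RangeChecked.all (RangeChecked.app 24 63000 (RangeChecked.app 256 62976 (RangeChecked.app 256 62720 (RangeChecked.app 256 62464 (RangeChecked.app 256 62208 (RangeChecked.app 256 61952 (RangeChecked.app 256 61696 (RangeChecked.app 256 61440 (RangeChecked.app 256 61184 (RangeChecked.app 256 60928 (RangeChecked.app 256 60672 (RangeChecked.app 256 60416 (RangeChecked.app 256 60160 (RangeChecked.app 256 59904 (RangeChecked.app 256 59648 (RangeChecked.app 256 59392 (RangeChecked.app 256 59136 (RangeChecked.app 256 58880 (RangeChecked.app 256 58624 (RangeChecked.app 256 58368 (RangeChecked.app 256 58112 (RangeChecked.app 256 57856 (RangeChecked.app 256 57600 (RangeChecked.app 256 57344 (RangeChecked.app 256 57088 (RangeChecked.app 256 56832 (RangeChecked.app 256 56576 (RangeChecked.app 256 56320 (RangeChecked.app 256 56064 (RangeChecked.app 256 55808 (RangeChecked.app 256 55552 (RangeChecked.app 256 55296 (RangeChecked.app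 256 55040 (RangeChecked.app 256 54784 (RangeChecked.app 256 54528 (RangeChecked.app 256 54272 (RangeChecked.app 256 54016 (RangeChecked.app 256 53760 (RangeChecked.app 256 53504 (RangeChecked.app 256 53248 (RangeChecked.app 256 52992 (RangeChecked.app 256 52736 (RangeChecked.app 256 52480 (RangeChecked.app 256 52224 (RangeChecked.app 256 51968 (RangeChecked.app 256 51712 (RangeChecked.app 256 51456 (RangeChecked.app 256 51200 (RangeChecked.app 256 50944 (RangeChecked.app 256 50688 (RangeChecked.app 256 50432 (RangeChecked.app 256 50176 (RangeChecked.app 256 49920 (RangeChecked.app 256 49664 (RangeChecked.app 256 49408 (RangeChecked.app 256 49152 (RangeChecked.app 256 48896 (RangeChecked.app 256 48640 (RangeChecked.app 256 48384 (RangeChecked.app 256 48128 (RangeChecked.app 256 47872 (RangeChecked.app 256 47616 (RangeChecked.app 256 47360 (RangeChecked.app 256 47104 (RangeChecked.app 256 46848 (RangeChecked.app 256 46592 (RangeChecked.app 256 46336 (RangeChecked.app 256 46080 (RangeChecked.app 256 45824 (RangeChecked.app 256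 45568 (RangeChecked.app 256 45312 (RangeChecked.app 256 45056 (RangeChecked.app 256 44800 (RangeChecked.app 256 44544 (RangeChecked.app 256 44288 (RangeChecked.app 256 44032 (RangeChecked.app 256 43776 (RangeChecked.app 256 43520 (RangeChecked.app 256 43264 (RangeChecked.app 256 43008 (RangeChecked.app 256 42752 (RangeChecked.app 256 42496 (RangeChecked.app 256 42240 (RangeChecked.app 256 41984 (RangeChecked.app 256 41728 (RangeChecked.app 256 41472 (RangeChecked.app 256 41216 (RangeChecked.app 256 40960 (RangeChecked.app 256 40704 (RangeChecked.app 256 40448 (RangeChecked.app 256 40192 (RangeChecked.app 256 39936 (RangeChecked.app 256 39680 (RangeChecked.app 256 39424 (RangeChecked.app 256 39168 (RangeChecked.app 256 38912 (RangeChecked.app 256 38656 (RangeChecked.app 256 38400 (RangeChecked.app 256 38144 (RangeChecked.app 256 37888 (RangeChecked.app 256 37632 (RangeChecked.app 256 37376 (RangeChecked.app 256 37120 (RangeChecked.app 256 36864 (RangeChecked.app 256 36608 (RangeChecked.app 256 36352 (RangeChecked.app 256 36096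 (RangeChecked.app 256 35840 (RangeChecked.app 256 35584 (RangeChecked.app 256 35328 (RangeChecked.app 256 35072 (RangeChecked.app 256 34816 (RangeChecked.app 256 34560 (RangeChecked.app 256 34304 (RangeChecked.app 256 34048 (RangeChecked.app 256 33792 (RangeChecked.app 256 33536 (RangeChecked.app 256 33280 (RangeChecked.app 256 33024 (RangeChecked.app 256 32768 (RangeChecked.app 256 32512 (RangeChecked.app 256 32256 (RangeChecked.app 256 32000 (RangeChecked.app 256 31744 (RangeChecked.app 256 31488 (RangeChecked.app 256 31232 (RangeChecked.app 256 30976 (RangeChecked.app 256 30720 (RangeChecked.app 256 30464 (RangeChecked.app 256 30208 (RangeChecked.app 256 29952 (RangeChecked.app 256 29696 (RangeChecked.app 256 29440 (RangeChecked.app 256 29184 (RangeChecked.app 256 28928 (RangeChecked.app 256 28672 (RangeChecked.app 256 28416 (RangeChecked.app 256 28160 (RangeChecked.app 256 27904 (RangeChecked.app 256 27648 (RangeChecked.app 256 27392 (RangeChecked.app 256 27136 (RangeChecked.app 256 26880 (RangeChecked.app 256 26624 (RangeChecked.app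 256 26368 (RangeChecked.app 256 26112 (RangeChecked.app 256 25856 (RangeChecked.app 256 25600 (RangeChecked.app 256 25344 (RangeChecked.app 256 25088 (RangeChecked.app 256 24832 (RangeChecked.app 256 24576 (RangeChecked.app 256 24320 (RangeChecked.app 256 24064 (RangeChecked.app 256 23808 (RangeChecked.app 256 23552 (RangeChecked.app 256 23296 (RangeChecked.app 256 23040 (RangeChecked.app 256 22784 (RangeChecked.app 256 22528 (RangeChecked.app 256 22272 (RangeChecked.app 256 22016 (RangeChecked.app 256 21760 (RangeChecked.app 256 21504 (RangeChecked.app 256 21248 (RangeChecked.app 256 20992 (RangeChecked.app 256 20736 (RangeChecked.app 256 20480 (RangeChecked.app 256 20224 (RangeChecked.app 256 19968 (RangeChecked.app 256 19712 (RangeChecked.app 256 19456 (RangeChecked.app 256 19200 (RangeChecked.app 256 18944 (RangeChecked.app 256 18688 (RangeChecked.app 256 18432 (RangeChecked.app 256 18176 (RangeChecked.app 256 17920 (RangeChecked.app 256 17664 (RangeChecked.app 256 17408 (RangeChecked.app 256 17152 (RangeChecked.app 256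 16896 (RangeChecked.app 256 16640 (RangeChecked.app 256 16384 (RangeChecked.app 256 16128 (RangeChecked.app 256 15872 (RangeChecked.app 256 15616 (RangeChecked.app 256 15360 (RangeChecked.app 256 15104 (RangeChecked.app 256 14848 (RangeChecked.app 256 14592 (RangeChecked.app 256 14336 (RangeChecked.app 256 14080 (RangeChecked.app 256 13824 (RangeChecked.app 256 13568 (RangeChecked.app 256 13312 (RangeChecked.app 256 13056 (RangeChecked.app 256 12800 (RangeChecked.app 256 12544 (RangeChecked.app 256 12288 (RangeChecked.app 256 12032 (RangeChecked.app 256 11776 (RangeChecked.app 256 11520 (RangeChecked.app 256 11264 (RangeChecked.app 256 11008 (RangeChecked.app 256 10752 (RangeChecked.app 256 10496 (RangeChecked.app 256 10240 (RangeChecked.app 256 9984 (RangeChecked.app 256 9728 (RangeChecked.app 256 9472 (RangeChecked.app 256 9216 (RangeChecked.app 256 8960 (RangeChecked.app 256 8704 (RangeChecked.app 256 8448 (RangeChecked.app 256 8192 (RangeChecked.app 256 7936 (RangeChecked.app 256 7680 (RangeChecked.app 256 7424 (RangeChecked.app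 256 7168 (RangeChecked.app 256 6912 (RangeChecked.app 256 6656 (RangeChecked.app 256 6400 (RangeChecked.app 256 6144 (RangeChecked.app 256 5888 (RangeChecked.app 256 5632 (RangeChecked.app 256 5376 (RangeChecked.app 256 5120 (RangeChecked.app 256 4864 (RangeChecked.app 256 4608 (RangeChecked.app 256 4352 (RangeChecked.app 256 4096 (RangeChecked.app 256 3840 (RangeChecked.app 256 3584 (RangeChecked.app 256 3328 (RangeChecked.app 256 3072 (RangeChecked.app 256 2816 (RangeChecked.app 256 2560 (RangeChecked.app 256 2304 (RangeChecked.app 256 2048 (RangeChecked.app 256 1792 (RangeChecked.app 256 1536 (RangeChecked.app 256 1280 (RangeChecked.app 256 1024 (RangeChecked.app 256 768 (RangeChecked.app 256 512 (RangeChecked.app 256 256 RangeChecked.zero rows0 rfl) rows256 rfl) rows512 rfl) rows768 rfl) rows1024 rfl) rows1280 rfl) rows1536 rfl) rows1792 rfl) rows2048 rfl) rows2304 rfl) rows2560 rfl) rows2816 rfl) rows3072 rfl) rows3328 rfl) rows3584 rfl) rows3840 rfl) rows4096 rfl) rows4352 rfl) rows4608 rfl) rows4864 rfl) rows5120 rfl)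 rows5376 rfl) rows5632 rfl) rows5888 rfl) rows6144 rfl) rows6400 rfl) rows6656 rfl) rows6912 rfl) rows7168 rfl) rows7424 rfl) rows7680 rfl) rows7936 rfl) rows8192 rfl) rows8448 rfl) rows8704 rfl) rows8960 rfl) rows9216 rfl) rows9472 rfl) rows9728 rfl) rows9984 rfl) rows10240 rfl) rows10496 rfl) rows10752 rfl) rows11008 rfl) rows11264 rfl) rows11520 rfl) rows11776 rfl) rows12032 rfl) rows12288 rfl) rows12544 rfl) rows12800 rfl) rows13056 rfl) rows13312 rfl) rows13568 rfl) rows13824 rfl) rows14080 rfl) rows14336 rfl) rows14592 rfl) rows14848 rfl) rows15104 rfl) rows15360 rfl) rows15616 rfl) rows15872 rfl) rows16128 rfl) rows16384 rfl) rows16640 rfl) rows16896 rfl) rows17152 rfl) rows17408 rfl) rows17664 rfl) rows17920 rfl) rows18176 rfl) rows18432 rfl) rows18688 rfl) rows18944 rfl) rows19200 rfl) rows19456 rfl) rows19712 rfl) rows19968 rfl) rows20224 rfl) rows20480 rfl) rows20736 rfl) rows20992 rfl) rows21248 rfl) rows21504 rfl) rows21760 rfl) rows22016 rfl) rows22272 rfl) rows22528 rfl) rows22784 rfl) rows23040 rfl) rows23296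 rfl) rows23552 rfl) rows23808 rfl) rows24064 rfl) rows24320 rfl) rows24576 rfl) rows24832 rfl) rows25088 rfl) rows25344 rfl) rows25600 rfl) rows25856 rfl) rows26112 rfl) rows26368 rfl) rows26624 rfl) rows26880 rfl) rows27136 rfl) rows27392 rfl) rows27648 rfl) rows27904 rfl) rows28160 rfl) rows28416 rfl) rows28672 rfl) rows28928 rfl) rows29184 rfl) rows29440 rfl) rows29696 rfl) rows29952 rfl) rows30208 rfl) rows30464 rfl) rows30720 rfl) rows30976 rfl) rows31232 rfl) rows31488 rfl) rows31744 rfl) rows32000 rfl) rows32256 rfl) rows32512 rfl) rows32768 rfl) rows33024 rfl) rows33280 rfl) rows33536 rfl) rows33792 rfl) rows34048 rfl) rows34304 rfl) rows34560 rfl) rows34816 rfl) rows35072 rfl) rows35328 rfl) rows35584 rfl) rows35840 rfl) rows36096 rfl) rows36352 rfl) rows36608 rfl) rows36864 rfl) rows37120 rfl) rows37376 rfl) rows37632 rfl) rows37888 rfl) rows38144 rfl) rows38400 rfl) rows38656 rfl) rows38912 rfl) rows39168 rfl) rows39424 rfl) rows39680 rfl) rows39936 rfl) rows40192 rfl) rows40448 rfl) rows40704 rfl) rows40960 rfl)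 rows41216 rfl) rows41472 rfl) rows41728 rfl) rows41984 rfl) rows42240 rfl) rows42496 rfl) rows42752 rfl) rows43008 rfl) rows43264 rfl) rows43520 rfl) rows43776 rfl) rows44032 rfl) rows44288 rfl) rows44544 rfl) rows44800 rfl) rows45056 rfl) rows45312 rfl) rows45568 rfl) rows45824 rfl) rows46080 rfl) rows46336 rfl) rows46592 rfl) rows46848 rfl) rows47104 rfl) rows47360 rfl) rows47616 rfl) rows47872 rfl) rows48128 rfl) rows48384 rfl) rows48640 rfl) rows48896 rfl) rows49152 rfl) rows49408 rfl) rows49664 rfl) rows49920 rfl) rows50176 rfl) rows50432 rfl) rows50688 rfl) rows50944 rfl) rows51200 rfl) rows51456 rfl) rows51712 rfl) rows51968 rfl) rows52224 rfl) rows52480 rfl) rows52736 rfl) rows52992 rfl) rows53248 rfl) rows53504 rfl) rows53760 rfl) rows54016 rfl) rows54272 rfl) rows54528 rfl) rows54784 rfl) rows55040 rfl) rows55296 rfl) rows55552 rfl) rows55808 rfl) rows56064 rfl) rows56320 rfl) rows56576 rfl) rows56832 rfl) rows57088 rfl) rows57344 rfl) rows57600 rfl) rows57856 rfl) rows58112 rfl) rows58368 rfl) rows58624 rfl) rows58880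 rfl) rows59136 rfl) rows59392 rfl) rows59648 rfl) rows59904 rfl) rows60160 rfl) rows60416 rfl) rows60672 rfl) rows60928 rfl) rows61184 rfl) rows61440 rfl) rows61696 rfl) rows61952 rfl) rows62208 rfl) rows62464 rfl) rows62720 rfl) rows62976 rfl)

theorem node_zero : cert.node 0 = 0 := by decide +kernel

theorem n_pos : 0 < cert.n := by decide +kernel

end CfsgLib.HN133.CertQ
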