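import Cfsg.Agent.HN133.CertQ.Data

/-! Generated: checks of the rows. -/

set_option autoImplicit false
set_option maxRecDepth 100000

namespace CfsgLib.HN133.CertQ

open CfsgLib.CosetEnum

theorem rows20480 : allFrom (checkRow epF (fun x => x ^^^ 1) 288713 4 nodeF TF tfF 63000) 20480 256 = true := by
  decide +kernel

theorem rows20736 : allFrom (checkRow epF (fun x => x ^^^ 1) 288713 4 nodeF TF tfF 63000) 20736 256 = true := by
  decide +kernel

theorem rows20992 : allFrom (checkRow epF (fun x => x ^^^ 1) 288713 4 nodeF TF tfF 63000) 20992 256 = true := by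
  decide +kernel

theorem rows21248 : allFrom (checkRow epF (fun x => x ^^^ 1) 288713 4 nodeF TF tfF 63000) 21248 256 = true := by
  decide +kernel

theorem rows21504 : allFrom (checkRow epF (fun x => x ^^^ 1) 288713 4 nodeF TF tfF 63000) 21504 256 = true := by
  decide +kernel

theorem rows21760 : allFrom (checkRow epF (fun x => x ^^^ 1) 288713 4 nodeF TF tfF 63000) 21760 256 = true := by
  decide +kernel

theorem rows22016 : allFrom (checkRow epF (fun x => x ^^^ 1) 288713 4 nodeF TF tfF 63000) 22016 256 = true := by
  decide +kernel

theorem rows22272 : allFrom (checkRow epF (fun x => x ^^^ 1) 288713 4 nodeF TF tfF 63000) 22272 256 = true := by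
  decide +kernel

theorem rows22528 : allFrom (checkRow epF (fun x => x ^^^ 1) 288713 4 nodeF TF tfF 63000) 22528 256 = true := by
  decide +kernel

theorem rows22784 : allFrom (checkRow epF (fun x => x ^^^ 1) 288713 4 nodeF TF tfF 63000) 22784 256 = true := by
  decide +kernel

theorem rows23040 : allFrom (checkRow epF (fun x => x ^^^ 1) 288713 4 nodeF TF tfF 63000) 23040 256 = true := by
  decide +kernel

theorem rows23296 : allFrom (checkRow epF (fun x => x ^^^ 1) 288713 4 nodeF TF tfF 63000) 23296 256 = true := by
  decide +kernel

theorem rows23552 : allFrom (checkRow epF (fun x => x ^^^ 1) 288713 4 nodeF TF tfF 63000) 23552 256 = true := by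
  decide +kernel

theorem rows23808 : allFrom (checkRow epF (fun x => x ^^^ 1) 288713 4 nodeF TF tfF 63000) 23808 256 = true := by
  decide +kernel

theorem rows24064 : allFrom (checkRow epF (fun x => x ^^^ 1) 288713 4 nodeF TF tfF 63000) 24064 256 = true := by
  decide +kernel

theorem rows24320 : allFrom (checkRow epF (fun x => x ^^^ 1) 288713 4 nodeF TF tfF 63000) 24320 256 = true := by
  decide +kernel

end CfsgLib.HN133.CertQ
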